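import Mathlib
import Groth.Agent.PropsBasic.AmpleBasis
import Groth.Agent.PropsBasic.ZeroDim

/-!
A section of a power of an ample module generating on the image of the spectrum of an algebra which
is integral over a field.
-/

set_option autoImplicit false
set_option linter.style.haveILetI false
set_option backward.isDefEq.respectTransparency.types false

universe u

open CategoryTheory AlgebraicGeometry TopologicalSpace Opposite

namespace Groth.AmpleAvoid

open Groth.PicAux Groth.PropsBasic.Ample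

/-- `seq j r` runs through products of pairwise comaximal factors. -/
def seq {R : Type*} [CommRing R] (r : R) : ℕ → R
  | 0 => r
  | j + 1 => seq r j * (seq r j + 1)

lemma map_seq {R S : Type*} [CommRing R] [CommRing S] (f : R →+* S) (r : R) :
    ∀ j, f (seq r j) = seq (f r) j
  | 0 => rfl
  | j + 1 => by simp [seq, map_seq f r j]

lemma add_one_dvd_seq {R : Type*} [CommRing R] (r : R) {i j : ℕ} (h : i < j) :
    seq r i + 1 ∣ seq r j := by
  induction j with
  | zero => omega
  | succ j ih =>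
    rcases Nat.lt_succ_iff_lt_or_eq.1 h with h | rfl
    · exact (ih h).trans (Dvd.intro _ rfl)
    · exact Dvd.intro_left _ rfl

/-- Some member of the sequence is a unit, in a ring with finitely many maximal ideals. -/
theorem exists_isUnit_seq {R : Type*} [CommRing R] [Finite (MaximalSpectrum R)] (r : R) :
    ∃ j, IsUnit (seq r j + 1) := by
  by_contra h
  push Not at h
  choose m hm hr using fun j => exists_max_ideal_of_mem_nonunits (h j)
  obtain ⟨i, j, hij, he⟩ := Finite.exists_ne_map_eq_of_infinite fun j => (⟨m j, hm j⟩ : MaximalSpectrum R)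
  have he' : m i = m j := congrArg MaximalSpectrum.asIdeal he
  have key : ∀ {a b : ℕ}, a < b → m a = m b → False := fun {a b} hab hm' => by
    refine (hm b).ne_top ((Ideal.eq_top_iff_one _).2 ?_)
    obtain ⟨c, hc⟩ := add_one_dvd_seq r hab
    have h1 : seq r b ∈ m b := hc ▸ (m b).mul_mem_right c (hm' ▸ hr a)
    simpa using (m b).sub_mem (hr b) h1
  rcases lt_or_gt_of_ne hij with h | h
  · exact key h he'
  · exact key h he'.symm

theorem exists_isUnit_seq_of_isIntegral {k B : Type*} [Field k] [CommRing B] [Algebra k B] {r : B}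
    (hr : IsIntegral k r) : ∃ j, IsUnit (seq r j + 1) := by
  let S := Algebra.adjoin k {r}
  haveI : Module.Finite k S := Module.Finite.iff_fg.2 hr.fg_adjoin_singleton
  haveI : IsArtinianRing S := isArtinian_of_tower k inferInstance
  obtain ⟨j, hj⟩ := exists_isUnit_seq (⟨r, Algebra.self_mem_adjoin_singleton k r⟩ : S)
  refine ⟨j, ?_⟩
  have := hj.map S.val.toRingHom
  rw [map_add, map_one, map_seq] at this
  exact this

/-- Functions on a clopen piece of an affine scheme are restrictions. -/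
theorem surjective_res_of_isClopen {A : CommRingCat.{u}} (O : (Spec A).Opens)
    (hO : IsClopen (O : Set (Spec A))) :
    Function.Surjective ((Spec A).presheaf.map (homOfLE (le_top : O ≤ ⊤)).op).hom := by
  obtain ⟨e, he, heO⟩ := PrimeSpectrum.exists_idempotent_basicOpen_eq_of_isClopen
    (R := A) (s := show Set (PrimeSpectrum A) from (O : Set (Spec A))) hO
  let e' : Γ(Spec A, ⊤) := (Scheme.ΓSpecIso A).inv e
  have he' : IsIdempotentElem e' := he.map (Scheme.ΓSpecIso A).inv.hom
  have hb : (Spec A).basicOpen e' = O := by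
    refine TopologicalSpace.Opens.ext (Eq.trans ?_ heO.symm)
    rw [basicOpen_eq_of_affine' e']
    simp [e']
    exact PrimeSpectrum.basicOpen_eq_zeroLocus_compl e
  subst hb
  intro x
  have := (isAffineOpen_top (Spec A)).isLocalization_basicOpen e'
  obtain ⟨⟨a, _, n, rfl⟩, ha⟩ := IsLocalization.surj (M := Submonoid.powers e') x
  refine ⟨a, ?_⟩
  have hu : IsUnit (algebraMap Γ(Spec A, ⊤) Γ(Spec A, (Spec A).basicOpen e') (e' ^ n)) :=
    IsLocalization.map_units _ (⟨e' ^ n, n, rfl⟩ : Submonoid.powers e')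
  have h1 : algebraMap Γ(Spec A, ⊤) Γ(Spec A, (Spec A).basicOpen e') (e' ^ n) = 1 := by
    rcases n with _ | n
    · simp
    · exact (IsIdempotentElem.iff_eq_one_of_isUnit hu).1 ((by rw [he'.pow_succ_eq]; exact he'.map (algebraMap Γ(Spec A, ⊤) _)))
  simp only [h1, mul_one] at ha
  exact ha.symm

variable {X : Scheme.{u}} {L M : X.Modules}

/-- Outside `X_s`, the locus of `t + s` is that of `t`. -/
theorem gloc_add_sup (hL : PicF.IsInvertible L) (s t : Γ(L, ⊤)) :
    gloc (t + s) ⊔ gloc s = gloc t ⊔ gloc s := by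
  obtain ⟨U, e, -, -, he, hcov⟩ := Groth.PropsBasic.Ample.exists_gen_cover hL
  refine opens_ext_cover hcov fun x => ?_
  obtain ⟨a, ha⟩ := (he x).exists_coeff le_rfl (res L le_top s)
  obtain ⟨b, hb⟩ := (he x).exists_coeff le_rfl (res L le_top t)
  rw [res_self] at ha hb
  rw [inf_sup_right, inf_sup_right, gloc_inf_eq_basicOpen (he x) (c := b + a) (by
      rw [res_add, hb, ha, add_smul]),
    gloc_inf_eq_basicOpen (he x) hb, gloc_inf_eq_basicOpen (he x) ha]
  ext y
  simp only [Opens.coe_sup, Set.mem_union, SetLike.mem_coe]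
  constructor <;> rintro (h | h)
  · have hy : y ∈ U x := X.basicOpen_le _ h
    rw [X.mem_basicOpen _ _ hy, map_add] at h
    rcases IsLocalRing.isUnit_or_isUnit_of_isUnit_add h with h | h
    · exact .inl ((X.mem_basicOpen _ _ hy).2 h)
    · exact .inr ((X.mem_basicOpen _ _ hy).2 h)
  · exact .inr h
  · by_cases ha' : y ∈ X.basicOpen a
    · exact .inr ha'
    have hy : y ∈ U x := X.basicOpen_le _ h
    refine .inl ?_
    rw [X.mem_basicOpen _ _ hy] at h ⊢
    rw [X.mem_basicOpen _ _ hy] at ha'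
    rw [map_add]
    refine (IsLocalRing.isUnit_or_isUnit_of_isUnit_add
      (a := X.presheaf.germ (U x) y hy b + X.presheaf.germ (U x) y hy a)
      (b := - X.presheaf.germ (U x) y hy a) (by simpa using h)).resolve_right fun hn => ha' ?_
    simpa using hn.neg
  · exact .inr h

/-- The locus of a sum of two sections with affine loci is affine. -/
theorem isAffineOpen_gloc_add (hL : PicF.IsInvertible L) (s t : Γ(L, ⊤)) (hs : IsAffineOpen (gloc s))
    (ht : IsAffineOpen (gloc t)) : IsAffineOpen (gloc (t + s)) := by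
  let O := gloc (t + s)
  have hg := gen_gloc (t + s) (le_refl O)
  obtain ⟨a, ha⟩ := hg.exists_coeff le_rfl (res L le_top s)
  obtain ⟨b, hb⟩ := hg.exists_coeff le_rfl (res L le_top t)
  rw [res_self] at ha hb
  have hab : b + a = 1 := by
    refine (hg O le_rfl).1 ?_
    show (b + a) • res L le_rfl _ = (1 : Γ(X, O)) • res L le_rfl _
    rw [add_smul, one_smul, res_self, ← hb, ← ha, res_add]
  refine isAffineOpen_of_isAffineOpen_basicOpen O {a, b} ?_ ?_
  · rw [Ideal.eq_top_iff_one, ← hab]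
    exact add_mem (Ideal.subset_span (by simp)) (Ideal.subset_span (by simp))
  · rintro i (rfl | rfl)
    · rw [← gloc_inf_eq_basicOpen hg ha, inf_comm]
      have := isAffineOpen_gloc_inf hL (homOfSection (t + s)) hs
      exact this
    · rw [← gloc_inf_eq_basicOpen hg hb, inf_comm]
      exact isAffineOpen_gloc_inf hL (homOfSection (t + s)) ht

theorem exists_transport {n m : ℕ} (h : n = m) :
    Nonempty (CohB1.tensorPow L n ≅ CohB1.tensorPow L m) := by
  subst h; exact ⟨Iso.refl _⟩

/-- The sections realising the sequence. -/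
theorem exists_sections (hL : PicF.IsInvertible L) {n : ℕ} (s₀ t₀ : Γ(CohB1.tensorPow L (n + 1), ⊤))
    (ht₀ : IsAffineOpen (gloc t₀)) {U : X.Opens} (hU : gloc s₀ = U) (r : Γ(X, U))
    (hr : res _ (le_top : U ≤ ⊤) t₀ = r • res _ le_top s₀) :
    ∀ j : ℕ, ∃ (N : ℕ) (s t : Γ(CohB1.tensorPow L (N + 1), ⊤)), gloc s = U ∧
      IsAffineOpen (gloc t) ∧ gloc t ≤ gloc t₀ ∧ gloc t ⊔ U = gloc t₀ ⊔ U ∧
      res _ (le_top : U ≤ ⊤) t = seq r j • res _ le_top s
  | 0 => ⟨n, s₀, t₀, hU, ht₀, le_rfl, rfl, hr⟩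
  | j + 1 => by
    obtain ⟨N, s, t, hs, hta, htl, hts, htr⟩ := exists_sections hL s₀ t₀ ht₀ hU r hr j
    have hM := isInvertible_tensorPow hL (N + 1)
    let M := CohB1.tensorPow L (N + 1)
    obtain ⟨φ⟩ := tensorPow_mul L (N + 1) 2
    obtain ⟨ψ⟩ := exists_transport (L := L) (show (N + 1) * 2 = 2 * N + 1 + 1 by ring)
    let e : CohB1.tensorPow M 2 ≅ CohB1.tensorPow L (2 * N + 1 + 1) := φ.symm ≪≫ ψ
    let s' : Γ(CohB1.tensorPow M 2, ⊤) := tmulSec (powSec s 1) s
    let t' : Γ(CohB1.tensorPow M 2, ⊤) := tmulSec (powSec t 1) (t + s)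
    have hs' : gloc s' = U := by
      rw [show gloc s' = gloc (powSec s 1) ⊓ gloc s from gloc_tmulSec (isInvertible_tensorPow hM 1) hM _ _,
        gloc_powSec hM s one_pos, inf_idem, hs]
    have ht' : gloc t' = gloc t ⊓ gloc (t + s) := by
      rw [show gloc t' = gloc (powSec t 1) ⊓ gloc (t + s) from gloc_tmulSec (isInvertible_tensorPow hM 1) hM _ _,
        gloc_powSec hM t one_pos]
    refine ⟨2 * N + 1, e.hom.app ⊤ s', e.hom.app ⊤ t', (gloc_map e.hom s').trans hs', ?_, ?_, ?_, ?_⟩
    · rw [gloc_map e.hom t', ht', inf_comm]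
      exact isAffineOpen_gloc_inf hM (homOfSection (t + s)) hta
    · rw [gloc_map e.hom t', ht']
      exact inf_le_left.trans htl
    · rw [gloc_map e.hom t', ht', ← hts, sup_inf_right, ← hs, gloc_add_sup hM, inf_idem]
    · rw [← app_res, ← app_res, ← Scheme.Modules.Hom.app_smul]
      congr 1
      show res (CohB1.tensorPow M 2) le_top (tmulSec (powSec t 1) (t + s)) =
        seq r (j + 1) • res (CohB1.tensorPow M 2) le_top (tmulSec (powSec s 1) s)
      have hadd : res M (le_top : U ≤ ⊤) (t + s) = (seq r j + 1) • res M le_top s := by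
        rw [res_add, htr, add_smul, one_smul]
      erw [res_tmulSec, res_tmulSec, res_powSec, res_powSec, htr, hadd]
      show tmulSec (powSec (seq r j • res M le_top s) 1) ((seq r j + 1) • res M le_top s) =
        seq r (j + 1) • tmulSec (powSec (res M le_top s) 1) (res M le_top s)
      rw [powSec_smul, pow_one, tmulSec_smul_left, tmulSec_smul_right, ← mul_smul]
      rfl

variable {k A : Type u} [Field k] [CommRing A] [Algebra k A] [Algebra.IsIntegral k A]
  (g : Spec (CommRingCat.of A) ⟶ X)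

include k in
theorem eq_of_specializes {x y : Spec (CommRingCat.of A)} (h : x ⤳ y) : x = y := by
  have h' : x.asIdeal ≤ y.asIdeal := (PrimeSpectrum.le_iff_specializes _ _).2 h
  haveI : Ring.KrullDimLE 0 A := Ring.KrullDimLE.mk₀ fun I hI =>
    Ideal.isMaximal_of_isIntegral_of_isMaximal_comap (R := k) I inferInstance
  haveI := x.isPrime
  exact PrimeSpectrum.ext ((x.asIdeal.isMaximal_of_isPrime).eq_of_le y.isPrime.ne_top h')

include k in
/-- Two sections are replaced by one. -/
theorem exists_combine [CompactSpace X] [X.IsSeparated] (hL : PicF.IsInvertible L) {n : ℕ}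
    (s t : Γ(CohB1.tensorPow L (n + 1), ⊤)) (hs : IsAffineOpen (gloc s)) (ht : IsAffineOpen (gloc t)) :
    ∃ (N : ℕ) (u : Γ(CohB1.tensorPow L (N + 1), ⊤)), IsAffineOpen (gloc u) ∧
      gloc u ≤ gloc s ⊔ gloc t ∧ g ⁻¹ᵁ (gloc s ⊔ gloc t) ≤ g ⁻¹ᵁ gloc u := by
  have hM := isInvertible_tensorPow hL (n + 1)
  let U := gloc s
  have hg : Gen _ U (res (CohB1.tensorPow L (n + 1)) (le_top : U ≤ ⊤) s) := gen_gloc s le_rfl
  obtain ⟨r, hr⟩ := hg.exists_coeff le_rfl (res _ le_top t)
  rw [res_self] at hr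
  let O := g ⁻¹ᵁ U
  haveI : QuasiCompact g := QuasiCompact.of_comp g (Limits.terminal.from X)
  have hO : IsClopen (O : Set (Spec (CommRingCat.of A))) :=
    ⟨Groth.PropsBasic.ZD.isClosed_of_isCompact (fun x y h => eq_of_specializes (k := k) h)
      (g.isCompact_preimage hs.isCompact), O.isOpen⟩
  let F : A →+* Γ(Spec (CommRingCat.of A), O) :=
    ((Spec (CommRingCat.of A)).presheaf.map (homOfLE (le_top : O ≤ ⊤)).op).hom.comp
      (Scheme.ΓSpecIso (CommRingCat.of A)).inv.hom
  obtain ⟨a, ha⟩ : ∃ a, F a = g.app U r := by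
    obtain ⟨a, ha⟩ := surjective_res_of_isClopen O hO (g.app U r)
    refine ⟨(Scheme.ΓSpecIso (CommRingCat.of A)).hom a, ?_⟩
    show ((Spec (CommRingCat.of A)).presheaf.map (homOfLE (le_top : O ≤ ⊤)).op).hom
      ((Scheme.ΓSpecIso (CommRingCat.of A)).inv ((Scheme.ΓSpecIso (CommRingCat.of A)).hom a)) = _
    refine Eq.trans (congrArg _ ?_) ha
    exact Iso.hom_inv_id_apply _ a
  obtain ⟨j, hj⟩ := exists_isUnit_seq_of_isIntegral (Algebra.IsIntegral.isIntegral (R := k) a)
  obtain ⟨N, s', t', hs', hta, htl, hts, htr⟩ := exists_sections hL s t ht (U := U) rfl r hr j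
  have hN := isInvertible_tensorPow hL (N + 1)
  refine ⟨N, t' + s', isAffineOpen_gloc_add hN s' t' (hs' ▸ hs) hta, ?_, ?_⟩
  · refine le_trans le_sup_left ((gloc_add_sup hN s' t').le.trans ?_)
    rw [hs']
    exact sup_le (htl.trans le_sup_right) le_sup_left
  · intro x hx
    have hg' : Gen _ U (res (CohB1.tensorPow L (N + 1)) (le_top : U ≤ ⊤) s') := gen_gloc s' hs'.ge
    have hb : gloc (t' + s') ⊓ U = X.basicOpen (seq r j + 1) :=
      gloc_inf_eq_basicOpen hg' (by rw [res_add, htr, add_smul, one_smul])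
    by_cases hxU : g x ∈ U
    · have : x ∈ g ⁻¹ᵁ X.basicOpen (seq r j + 1) := by
        rw [Scheme.preimage_basicOpen, Scheme.basicOpen_of_isUnit]
        · exact hxU
        · rw [map_add, map_one, map_seq, ← ha, ← map_seq]
          simpa using hj.map F
      rw [← hb] at this
      exact this.1
    · have h1 : g x ∈ gloc t' ⊔ U := hts.ge (by
        rcases hx with h | h
        · exact absurd h hxU
        · exact .inl h)
      have h2 : g x ∈ gloc (t' + s') ⊔ gloc s' := by
        rw [gloc_add_sup hN, hs']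
        exact h1
      rcases h2 with h | h
      · exact h
      · exact absurd (hs' ▸ h) hxU

include k in
/-- One section for the whole image. -/
theorem exists_section (hA : CohB1.IsAmple L) (W : X.Opens) (hg : Set.range g ⊆ (W : Set X)) :
    ∃ (n : ℕ) (u : Γ(CohB1.tensorPow L (n + 1), ⊤)), IsAffineOpen (gloc u) ∧ gloc u ≤ W ∧
      Set.range g ⊆ (gloc u : Set X) := by
  classical
  obtain ⟨hL, hc, hcov⟩ := id hA
  haveI := isSeparated_of_cover hL hcov
  have hB := isBasis_of_isAmple hA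
  have hpt : ∀ p, ∃ (n : ℕ) (u : Γ(CohB1.tensorPow L (n + 1), ⊤)), IsAffineOpen (gloc u) ∧
      gloc u ≤ W ∧ g p ∈ gloc u := fun p => by
    obtain ⟨V, hV, hxV, hVW⟩ := exists_isAffineOpen_mem_and_subset (hg ⟨p, rfl⟩)
    obtain ⟨_, ⟨n, s, rfl⟩, hxs, hsV⟩ := Opens.isBasis_iff_nbhd.1 hB hxV
    refine ⟨n, gsec s, ?_, (genLocus_eq_gloc s).ge.trans (hsV.trans fun z hz => hVW hz), genLocus_eq_gloc s ▸ hxs⟩
    rw [← genLocus_eq_gloc, ← inf_eq_left.2 hsV]
    exact isAffineOpen_gloc_inf (isInvertible_tensorPow hL (n + 1)) s hV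
  choose n u hua huW hup using hpt
  obtain ⟨F, hF⟩ := isCompact_univ.elim_finite_subcover
    (fun p => ((g ⁻¹ᵁ gloc (u p) : (Spec (CommRingCat.of A)).Opens) : Set (Spec (CommRingCat.of A))))
    (fun p => (g ⁻¹ᵁ gloc (u p)).isOpen) (fun p _ => Set.mem_iUnion.2 ⟨p, hup p⟩)
  suffices ∀ F : Finset (Spec (CommRingCat.of A)), ∃ (m : ℕ) (v : Γ(CohB1.tensorPow L (m + 1), ⊤)),
      IsAffineOpen (gloc v) ∧ gloc v ≤ W ∧ ∀ p ∈ F, g ⁻¹ᵁ gloc (u p) ≤ g ⁻¹ᵁ gloc v by
    obtain ⟨m, v, hva, hvW, hv⟩ := this F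
    refine ⟨m, v, hva, hvW, ?_⟩
    rintro _ ⟨x, rfl⟩
    obtain ⟨p, hp, hx⟩ := Set.mem_iUnion₂.1 (hF (Set.mem_univ x))
    exact hv p hp hx
  intro F
  induction F using Finset.induction with
  | empty =>
    have h0 : gloc (0 : Γ(CohB1.tensorPow L (0 + 1), ⊤)) = ⊥ := by
      obtain ⟨U, e, -, -, he, hcov⟩ := Groth.PropsBasic.Ample.exists_gen_cover (isInvertible_tensorPow hL (0 + 1))
      refine opens_ext_cover hcov fun x => ?_
      rw [gloc_inf_eq_basicOpen (he x) (c := 0) (by rw [zero_smul]; exact map_zero (Groth.QCohMod.res _ le_top)),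
        Scheme.basicOpen_zero, bot_inf_eq]
    exact ⟨0, 0, h0 ▸ isAffineOpen_bot X, h0 ▸ bot_le, by simp⟩
  | insert p F _ ih =>
    obtain ⟨m, v, hva, hvW, hv⟩ := ih
    obtain ⟨s', t', hs', ht'⟩ := exists_common_power hL v (u p)
    obtain ⟨e⟩ := exists_transport (L := L) (show (m + 1) * (n p + 1) = (m + 1) * (n p + 1) - 1 + 1 by
      have : 0 < (m + 1) * (n p + 1) := Nat.mul_pos m.succ_pos (n p).succ_pos
      omega)
    obtain ⟨N, w, hwa, hwle, hw⟩ := exists_combine (k := k) g hL (e.hom.app ⊤ s') (e.hom.app ⊤ t')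
      (by rw [gloc_map e.hom s', hs']; exact hva) (by rw [gloc_map e.hom t', ht']; exact hua p)
    rw [gloc_map e.hom s', gloc_map e.hom t', hs', ht'] at hwle hw
    refine ⟨N, w, hwa, hwle.trans (sup_le hvW (huW p)), fun q hq => ?_⟩
    rcases Finset.mem_insert.1 hq with rfl | hq
    · exact le_trans (g.preimage_mono le_sup_right) hw
    · exact (hv q hq).trans (le_trans (g.preimage_mono le_sup_left) hw)

end Groth.AmpleAvoid
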